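import Mathlib
import Cfsg.Prelude.Def_Solvable
import Cfsg.Agent.ClassTwoFusion.Quad
import Cfsg.Agent.Lib.SylowNormalInf
import Cfsg.Agent.Lib.Cores

section


/-!
# OMEGA / SQ0: the K-free FF-theorem for minimal parabolics, PART 1: the `L`-lemma

`H` a finite group in which every Sylow 2-subgroup `P` lies in a unique maximal subgroup `M P`, `O₂(H) = 1`, `A ≠ 1` a
2-subgroup.  Then there are a conjugate `A₁` of `A` and subgroups `A₁ ≤ L₁ < L` such that `L₁` is the unique maximal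
subgroup of `L` over `A₁`, `A₁ ≰ L₁^l` for `l ∈ L - L₁`, and every 2-subgroup of `L₁` containing `A₁` lies in a Sylow
2-subgroup `P` of `H` with `L ≰ M P`.
-/

set_option autoImplicit false

open Subgroup
open scoped Pointwise

namespace Cfsg.Agent.Omega.MinFF

variable {H : Type*} [Group H]

theorem mem_cj {g x : H} {A : Subgroup H} : x ∈ MulAut.conj g • A ↔ g⁻¹ * x * g ∈ A := by
  rw [mem_pointwise_smul_iff_inv_smul_mem, ← map_inv, MulAut.smul_def, MulAut.conj_apply, inv_inv]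

theorem conj_mem_cj {g x : H} {A : Subgroup H} (hx : x ∈ A) : g * x * g⁻¹ ∈ MulAut.conj g • A := by
  rw [mem_cj]
  simpa [mul_assoc] using hx

theorem cj_cj (g h : H) (A : Subgroup H) : MulAut.conj g • MulAut.conj h • A = MulAut.conj (g * h) • A := by
  rw [smul_smul, ← map_mul]

theorem cj_one (A : Subgroup H) : MulAut.conj (1 : H) • A = A := by
  rw [map_one, one_smul]

theorem cj_mono {g : H} {A B : Subgroup H} (h : A ≤ B) : MulAut.conj g • A ≤ MulAut.conj g • B :=
  pointwise_smul_le_pointwise_smul_iff.2 h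

theorem cj_le_iff {g : H} {A B : Subgroup H} : MulAut.conj g • A ≤ B ↔ A ≤ MulAut.conj g⁻¹ • B := by
  rw [pointwise_smul_subset_iff, map_inv]

theorem cj_top (g : H) : MulAut.conj g • (⊤ : Subgroup H) = ⊤ := by
  rw [eq_top_iff]
  intro x _
  rw [mem_cj]
  trivial

theorem cj_bot (g : H) : MulAut.conj g • (⊥ : Subgroup H) = ⊥ := by
  rw [eq_bot_iff]
  intro x hx
  rw [mem_cj, mem_bot] at hx
  rw [mem_bot]
  calc x = g * (g⁻¹ * x * g) * g⁻¹ := by group
    _ = 1 := by rw [hx]; group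

theorem cj_inj {g : H} {A B : Subgroup H} (h : MulAut.conj g • A = MulAut.conj g • B) : A = B := by
  have := congrArg (fun X => MulAut.conj g⁻¹ • X) h
  simpa [cj_cj] using this

theorem mem_normalizer_iff_cj {g : H} {A : Subgroup H} : g ∈ normalizer (A : Set H) ↔ MulAut.conj g • A = A := by
  constructor
  · intro hg
    ext x
    rw [mem_cj]
    have := (mem_normalizer_iff.1 hg) (g⁻¹ * x * g)
    rw [this]
    have e : g * (g⁻¹ * x * g) * g⁻¹ = x := by group
    rw [e]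
  · intro h
    rw [mem_normalizer_iff]
    intro x
    constructor
    · intro hx
      rw [← h]
      exact conj_mem_cj hx
    · intro hx
      rw [← h, mem_cj] at hx
      simpa [mul_assoc] using hx

theorem cj_of_mem {g : H} {A : Subgroup H} (hg : g ∈ A) : MulAut.conj g • A = A :=
  mem_normalizer_iff_cj.1 (le_normalizer hg)

theorem isPGroup_cj {p : ℕ} {A : Subgroup H} (hA : IsPGroup p A) (g : H) :
    IsPGroup p (MulAut.conj g • A : Subgroup H) := by
  have : (MulAut.conj g • A : Subgroup H) = A.map (MulAut.conj g).toMonoidHom := rfl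
  rw [this]
  exact hA.map _

theorem card_cj (g : H) (A : Subgroup H) : Nat.card (MulAut.conj g • A : Subgroup H) = Nat.card A := by
  have : (MulAut.conj g • A : Subgroup H) = A.map (MulAut.conj g).toMonoidHom := rfl
  rw [this]
  exact Nat.card_congr (A.equivMapOfInjective _ (MulAut.conj g).injective).symm.toEquiv

theorem coe_smul_sylow {p : ℕ} (g : H) (P : Sylow p H) : ((g • P : Sylow p H) : Subgroup H) = MulAut.conj g • (P : Subgroup H) :=
  Sylow.coe_subgroup_smul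

/-- a 2-subgroup of `K ≥ P` lies in a Sylow 2-subgroup `k • P`, `k ∈ K` -/
theorem exists_sylow_le [Finite H] {p : ℕ} [Fact p.Prime] {K R : Subgroup H} (P : Sylow p H) (hPK : (P : Subgroup H) ≤ K)
    (hRK : R ≤ K) (hR : IsPGroup p R) : ∃ k ∈ K, R ≤ ((k • P : Sylow p H) : Subgroup H) := by
  have hR' : IsPGroup p (R.subgroupOf K) := hR.comap_subtype
  obtain ⟨Q, hQ⟩ := hR'.exists_le_sylow
  obtain ⟨k, hk⟩ := MulAction.exists_smul_eq K (P.subtype hPK) Q
  refine ⟨k, k.2, fun x hx => ?_⟩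
  have h1 : (⟨x, hRK hx⟩ : K) ∈ (Q : Subgroup K) := hQ (mem_subgroupOf.2 hx)
  rw [← hk, coe_smul_sylow, mem_cj, Sylow.coe_subtype, mem_subgroupOf] at h1
  rw [coe_smul_sylow, mem_cj]
  exact h1

/-- every Sylow 2-subgroup `P` lies in a unique maximal subgroup `M P` -/
structure UM (M : Sylow 2 H → Subgroup H) : Prop where
  le : ∀ P : Sylow 2 H, (P : Subgroup H) ≤ M P
  ne : ∀ P : Sylow 2 H, M P ≠ ⊤
  uniq : ∀ (P : Sylow 2 H) (K : Subgroup H), (P : Subgroup H) ≤ K → K ≠ ⊤ → K ≤ M P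

namespace UM

variable {M : Sylow 2 H → Subgroup H} (h : UM M)

include h

theorem eq_of_le {P P' : Sylow 2 H} (hle : (P' : Subgroup H) ≤ M P) : M P' = M P := by
  have h1 := h.uniq P' (M P) hle (h.ne P)
  exact le_antisymm (h.uniq P (M P') ((h.le P).trans h1) (h.ne P')) h1

theorem conj (P : Sylow 2 H) (g : H) : M (g • P) = MulAut.conj g • M P := by
  have h1 : ((g • P : Sylow 2 H) : Subgroup H) ≤ MulAut.conj g • M P := by
    rw [coe_smul_sylow]
    exact cj_mono (h.le P)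
  have h2 : MulAut.conj g • M P ≠ ⊤ := by
    intro e
    apply h.ne P
    apply cj_inj (g := g)
    rw [e, cj_top]
  have h3 := h.uniq _ _ h1 h2
  apply le_antisymm _ h3
  have h4 : (P : Subgroup H) ≤ MulAut.conj g⁻¹ • M (g • P) := by
    rw [← cj_le_iff, ← coe_smul_sylow]
    exact h.le _
  have h5 : MulAut.conj g⁻¹ • M (g • P) ≠ ⊤ := by
    intro e
    apply h.ne (g • P)
    apply cj_inj (g := g⁻¹)
    rw [e, cj_top]
  have h6 := h.uniq _ _ h4 h5
  have h7 := cj_mono (g := g) h6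
  rwa [cj_cj, mul_inv_cancel, cj_one] at h7

end UM

theorem le_pCore {N : Subgroup H} (hN : N.Normal) (h2 : IsPGroup 2 N) : N ≤ Cfsg.pCore 2 H :=
  le_sSup ⟨hN, h2⟩

theorem normal_of_normalizer_eq_top {N : Subgroup H} (h : normalizer (N : Set H) = ⊤) : N.Normal :=
  normalizer_eq_top_iff.1 h

section

variable [Finite H] {M : Sylow 2 H → Subgroup H} (h : UM M) (hO : Cfsg.pCore 2 H = ⊥)

include hO in
theorem normalizer_ne_top {N : Subgroup H} (h2 : IsPGroup 2 N) (h1 : N ≠ ⊥) : normalizer (N : Set H) ≠ ⊤ := by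
  intro e
  apply h1
  rw [eq_bot_iff, ← hO]
  exact le_pCore (normal_of_normalizer_eq_top e) h2

include h hO in
theorem UM.self (hT : ∀ P : Sylow 2 H, (P : Subgroup H) ≠ ⊥) {P : Sylow 2 H} {g : H}
    (hg : MulAut.conj g • M P = M P) : g ∈ M P := by
  have h1 : ((g • P : Sylow 2 H) : Subgroup H) ≤ M P := by
    rw [coe_smul_sylow, ← hg]
    exact cj_mono (h.le P)
  obtain ⟨k, hk, hkP⟩ := exists_sylow_le P (h.le P) h1 (g • P).isPGroup'
  have h2 : g • P = k • P := by
    apply Sylow.ext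
    exact (g • P).is_maximal' (k • P).isPGroup' hkP |>.symm
  have h3 : (k⁻¹ * g) • P = P := by rw [mul_smul, h2, smul_smul, inv_mul_cancel, one_smul]
  have h4 : k⁻¹ * g ∈ normalizer ((P : Subgroup H) : Set H) := Sylow.smul_eq_iff_mem_normalizer.1 h3
  have h5 : k⁻¹ * g ∈ M P := h.uniq P _ le_normalizer (normalizer_ne_top hO P.isPGroup' (hT P)) h4
  have := mul_mem hk h5
  rwa [mul_inv_cancel_left] at this

end

/-- the subgroup generated by the conjugates of `A` contained in `X` -/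
def WW (A X : Subgroup H) : Subgroup H := ⨆ (g : H) (_ : MulAut.conj g • A ≤ X), MulAut.conj g • A

theorem WW_le (A X : Subgroup H) : WW A X ≤ X := by
  rw [WW]
  exact iSup_le fun _ => iSup_le fun h => h

theorem WW_le_of {A X Y : Subgroup H} (h : ∀ g : H, MulAut.conj g • A ≤ X → MulAut.conj g • A ≤ Y) : WW A X ≤ Y := by
  rw [WW]
  exact iSup_le fun g => iSup_le fun hg => h g hg

theorem le_WW {A X : Subgroup H} {g : H} (h : MulAut.conj g • A ≤ X) : MulAut.conj g • A ≤ WW A X := by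
  rw [WW]
  exact le_iSup_of_le g (le_iSup_of_le h le_rfl)

theorem WW_mono {A X Y : Subgroup H} (h : X ≤ Y) : WW A X ≤ WW A Y :=
  WW_le_of fun _ h' => le_WW (h'.trans h)

theorem cj_WW_le (A X : Subgroup H) (g : H) : MulAut.conj g • WW A X ≤ WW A (MulAut.conj g • X) := by
  rw [cj_le_iff]
  refine WW_le_of fun k hk => ?_
  rw [← cj_le_iff, cj_cj]
  apply le_WW
  rw [← cj_cj]
  exact cj_mono hk

theorem cj_WW (A X : Subgroup H) (g : H) : MulAut.conj g • WW A X = WW A (MulAut.conj g • X) := by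
  apply le_antisymm (cj_WW_le A X g)
  have h1 := cj_WW_le A (MulAut.conj g • X) g⁻¹
  rw [cj_cj, inv_mul_cancel, cj_one] at h1
  have h2 := cj_mono (g := g) h1
  rwa [cj_cj, mul_inv_cancel, cj_one] at h2

theorem normalizer_le_WW (A X : Subgroup H) : normalizer (X : Set H) ≤ normalizer (WW A X : Set H) := by
  intro g hg
  rw [mem_normalizer_iff_cj] at hg ⊢
  rw [cj_WW, hg]

/-- data delivered by the `L`-lemma -/
structure LData (M : Sylow 2 H → Subgroup H) (A A₁ L₁ L : Subgroup H) : Prop where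
  cj : ∃ g : H, A₁ = MulAut.conj g • A
  A_le : A₁ ≤ L₁
  L_le : L₁ ≤ L
  ne : L₁ ≠ L
  uniq : ∀ K : Subgroup H, A₁ ≤ K → K ≤ L → K ≠ L → K ≤ L₁
  ti : ∀ l ∈ L, A₁ ≤ MulAut.conj l • L₁ → l ∈ L₁
  fix : ∀ R : Subgroup H, R ≤ L₁ → IsPGroup 2 R → ∃ P : Sylow 2 H, R ≤ P ∧ ¬ L ≤ M P

/-- `J` is a maximal 2-subgroup generated by conjugates of `A` lying in two different `M P` -/
structure JData (M : Sylow 2 H → Subgroup H) (A J : Subgroup H) : Prop where
  p : IsPGroup 2 J
  gen : J = WW A J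
  two : ∃ P P' : Sylow 2 H, M P ≠ M P' ∧ J ≤ P ∧ J ≤ P'
  max : ∀ B : Subgroup H, IsPGroup 2 B → B = WW A B → J < B → ∀ P P' : Sylow 2 H, B ≤ M P → B ≤ M P' → M P = M P'

/-- the conjugate `A^g` normalises `J` and does not lie in `J` -/
def Mem (A J : Subgroup H) (g : H) : Prop :=
  MulAut.conj g • A ≤ normalizer (J : Set H) ∧ ¬ MulAut.conj g • A ≤ J

/-- `M P` is the owner of `A^g` -/
def Own (M : Sylow 2 H → Subgroup H) (A J : Subgroup H) (g : H) (P : Sylow 2 H) : Prop :=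
  MulAut.conj g • A ≤ M P ∧ J ≤ M P

section

variable [Finite H] {M : Sylow 2 H → Subgroup H}

/-- in a 2-group `P`, a subgroup containing its normaliser in `P` is `P` -/
theorem eq_of_normalizer_le {P Y : Subgroup H} (hP : IsPGroup 2 P) (hY : Y ≤ P)
    (hN : normalizer (Y : Set H) ⊓ P ≤ Y) : Y = P := by
  by_contra hne
  have hlt : Y < P := lt_of_le_of_ne hY hne
  have : Finite P := inferInstance
  have hn : Group.IsNilpotent P := hP.isNilpotent
  have hcond := Group.normalizerCondition_of_isNilpotent (G := P)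
  have h1 : Y.subgroupOf P < ⊤ := by
    rw [lt_top_iff_ne_top]
    intro e
    exact hne (le_antisymm hY (subgroupOf_eq_top.1 e))
  have h2 := hcond _ h1
  obtain ⟨x, hx1, hx2⟩ := SetLike.exists_of_lt h2
  apply hx2
  rw [mem_subgroupOf]
  apply hN
  refine mem_inf.2 ⟨?_, x.2⟩
  rw [mem_normalizer_iff] at hx1 ⊢
  intro y
  constructor
  · intro hy
    have := (hx1 ⟨y, hY hy⟩).1 (mem_subgroupOf.2 hy)
    exact mem_subgroupOf.1 this
  · intro hy
    have hyP : y ∈ P := by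
      have h3 := P.mul_mem (P.mul_mem (P.inv_mem x.2) (hY hy)) x.2
      have e : (x : H)⁻¹ * ((x : H) * y * (x : H)⁻¹) * (x : H) = y := by group
      rwa [e] at h3
    have := (hx1 ⟨y, hyP⟩).2 (mem_subgroupOf.2 hy)
    exact mem_subgroupOf.1 this

theorem growth {A B : Subgroup H} (P : Sylow 2 H) (hBP : B ≤ P) (hB : B = WW A B) (hne : B ≠ WW A P) :
    ∃ g : H, MulAut.conj g • A ≤ normalizer (B : Set H) ⊓ P ∧ ¬ MulAut.conj g • A ≤ B := by
  by_contra hcon
  push Not at hcon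
  have h1 : WW A (normalizer (B : Set H) ⊓ P) = B := by
    apply le_antisymm (WW_le_of fun g hg => hcon g hg)
    conv_lhs => rw [hB]
    exact WW_mono (le_inf le_normalizer hBP)
  have h2 : (normalizer (B : Set H) ⊓ P : Subgroup H) = P := by
    apply eq_of_normalizer_le P.isPGroup' inf_le_right
    refine le_inf ?_ inf_le_right
    intro x hx
    have := normalizer_le_WW A _ hx.1
    rwa [h1] at this
  rw [h2] at h1
  exact hne h1.symm

theorem exists_cj_le {A : Subgroup H} (hA : IsPGroup 2 A) (P : Sylow 2 H) : ∃ g : H, MulAut.conj g • A ≤ (P : Subgroup H) := by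
  obtain ⟨Q, hQ⟩ := hA.exists_le_sylow
  obtain ⟨x, hx⟩ := MulAction.exists_smul_eq H Q P
  refine ⟨x, ?_⟩
  rw [← hx, coe_smul_sylow]
  exact cj_mono hQ

theorem cj_ne_bot {A : Subgroup H} (hA1 : A ≠ ⊥) (g : H) : MulAut.conj g • A ≠ ⊥ := by
  intro e
  apply hA1
  apply cj_inj (g := g)
  rw [e, cj_bot]

theorem sylow_ne_bot {A : Subgroup H} (hA : IsPGroup 2 A) (hA1 : A ≠ ⊥) (P : Sylow 2 H) : (P : Subgroup H) ≠ ⊥ := by
  intro e
  obtain ⟨g, hg⟩ := exists_cj_le hA P
  rw [e, le_bot_iff] at hg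
  exact cj_ne_bot hA1 g hg

theorem eq_of_WW_le (h : UM M) (hO : Cfsg.pCore 2 H = ⊥) {A : Subgroup H} (hA : IsPGroup 2 A) (hA1 : A ≠ ⊥)
    {P P' : Sylow 2 H} (hle : WW A P ≤ M P') : M P = M P' := by
  have hWp : ∀ Q : Sylow 2 H, IsPGroup 2 (WW A Q : Subgroup H) := fun Q => Q.isPGroup'.to_le (WW_le A Q)
  obtain ⟨k, hk, hkP⟩ := exists_sylow_le P' (h.le P') hle (hWp P)
  set P'' := k • P' with hP''
  have hM : M P'' = M P' := by
    rw [hP'', h.conj, cj_of_mem hk]
  obtain ⟨g, hg⟩ := MulAction.exists_smul_eq H P P''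
  have hcard : Nat.card (WW A (P'' : Subgroup H)) = Nat.card (WW A (P : Subgroup H)) := by
    rw [← hg, coe_smul_sylow, ← cj_WW, card_cj]
  have h1 : WW A (P : Subgroup H) ≤ WW A (P'' : Subgroup H) := WW_le_of fun x hx => le_WW ((le_WW hx).trans hkP)
  have h2 : WW A (P : Subgroup H) = WW A (P'' : Subgroup H) := eq_of_le_of_card_ge h1 hcard.le
  have hne : WW A (P : Subgroup H) ≠ ⊥ := by
    obtain ⟨x, hx⟩ := exists_cj_le hA P
    intro e
    have h4 := le_WW hx
    rw [e, le_bot_iff] at h4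
    exact cj_ne_bot hA1 x h4
  have hN : normalizer (WW A (P : Subgroup H) : Set H) ≠ ⊤ := normalizer_ne_top hO (hWp P) hne
  have h3 : (P : Subgroup H) ≤ normalizer (WW A (P : Subgroup H) : Set H) :=
    le_normalizer.trans (normalizer_le_WW A _)
  have h4 : (P'' : Subgroup H) ≤ normalizer (WW A (P : Subgroup H) : Set H) := by
    rw [h2]
    exact le_normalizer.trans (normalizer_le_WW A _)
  have h5 := h.uniq P _ h3 hN
  have h6 := h.eq_of_le (h4.trans h5)
  rw [← h6, hM]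

theorem exists_J (h : UM M) (hO : Cfsg.pCore 2 H = ⊥) {A : Subgroup H} (hA : IsPGroup 2 A) (hA1 : A ≠ ⊥) :
    ∃ J, JData M A J := by
  have hT := sylow_ne_bot hA hA1
  have hex : ∃ P P' : Sylow 2 H, M P ≠ M P' := by
    by_contra hcon
    push Not at hcon
    obtain ⟨P⟩ := (inferInstance : Nonempty (Sylow 2 H))
    apply h.ne P
    rw [eq_top_iff]
    intro x _
    apply h.self hO hT
    rw [← h.conj]
    exact hcon _ _
  let S : Set (Subgroup H) := {B | IsPGroup 2 B ∧ B = WW A B ∧ ∃ P P' : Sylow 2 H, M P ≠ M P' ∧ B ≤ M P ∧ B ≤ M P'}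
  have hSne : S.Nonempty := by
    obtain ⟨P, P', hPP⟩ := hex
    exact ⟨⊥, IsPGroup.of_bot, le_antisymm bot_le (WW_le A ⊥), P, P', hPP, bot_le, bot_le⟩
  obtain ⟨B, hB⟩ := (Set.toFinite S).exists_maximal hSne
  obtain ⟨hBp, hBW, P₁, P₂, hPP, hB1, hB2⟩ := hB.prop
  refine ⟨B, hBp, hBW, ?_, ?_⟩
  · obtain ⟨k₁, hk₁, h1⟩ := exists_sylow_le P₁ (h.le P₁) hB1 hBp
    obtain ⟨k₂, hk₂, h2⟩ := exists_sylow_le P₂ (h.le P₂) hB2 hBp
    refine ⟨k₁ • P₁, k₂ • P₂, ?_, h1, h2⟩
    rw [h.conj, h.conj, cj_of_mem hk₁, cj_of_mem hk₂]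
    exact hPP
  · intro B' h1 h2 h3 P P' h4 h5
    by_contra hne
    exact hB.not_prop_of_gt h3 ⟨h1, h2, P, P', hne, h4, h5⟩

namespace JData

variable {A J : Subgroup H} (hJ : JData M A J)
include hJ

omit [Finite H] in
theorem sup_mem {g : H} (hA : IsPGroup 2 A) (hg : Mem A J g) : IsPGroup 2 (J ⊔ MulAut.conj g • A : Subgroup H) ∧
    (J ⊔ MulAut.conj g • A : Subgroup H) = WW A (J ⊔ MulAut.conj g • A : Subgroup H) ∧
    J < J ⊔ MulAut.conj g • A := by
  refine ⟨?_, ?_, ?_⟩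
  · rw [sup_comm]
    exact IsPGroup.to_sup_of_normal_right' (isPGroup_cj hA g) hJ.p hg.1
  · apply le_antisymm _ (WW_le _ _)
    apply sup_le
    · conv_lhs => rw [hJ.gen]
      exact WW_mono le_sup_left
    · exact le_WW le_sup_right
  · refine lt_of_le_of_ne le_sup_left fun e => hg.2 ?_
    rw [e]
    exact le_sup_right

omit [Finite H] in
theorem own_unique (hA : IsPGroup 2 A) {g : H} (hg : Mem A J g) {P P' : Sylow 2 H} (h1 : Own M A J g P)
    (h2 : Own M A J g P') : M P = M P' := by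
  obtain ⟨h5, h6, h7⟩ := hJ.sup_mem hA hg
  exact hJ.max _ h5 h6 h7 P P' (sup_le h1.2 h1.1) (sup_le h2.2 h2.1)

theorem exists_own (h : UM M) (hA : IsPGroup 2 A) {g : H} (hg : Mem A J g) : ∃ P, Own M A J g P := by
  obtain ⟨h5, -, -⟩ := hJ.sup_mem hA hg
  obtain ⟨P, hP⟩ := h5.exists_le_sylow
  exact ⟨P, le_sup_right.trans (hP.trans (h.le P)), le_sup_left.trans (hP.trans (h.le P))⟩

omit hJ [Finite H] in
theorem mem_mul {g l : H} (hg : Mem A J g) (hl : l ∈ normalizer (J : Set H)) : Mem A J (l * g) := by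
  have hl' := mem_normalizer_iff_cj.1 hl
  constructor
  · rw [← cj_cj]
    intro x hx
    rw [mem_cj] at hx
    have h1 := hg.1 hx
    have h2 := mul_mem (mul_mem hl h1) (inv_mem hl)
    have e : l * (l⁻¹ * x * l) * l⁻¹ = x := by group
    rwa [e] at h2
  · intro hle
    apply hg.2
    rw [← cj_cj, ← hl'] at hle
    rw [cj_le_iff, cj_cj, inv_mul_cancel, cj_one] at hle
    exact hle

omit hJ [Finite H] in
theorem own_mul (h : UM M) {g l : H} {P : Sylow 2 H} (hP : Own M A J g P) (hl : l ∈ normalizer (J : Set H)) :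
    Own M A J (l * g) (l • P) := by
  constructor
  · rw [h.conj, ← cj_cj]
    exact cj_mono hP.1
  · rw [h.conj, ← mem_normalizer_iff_cj.1 hl]
    exact cj_mono hP.2

/-- two members with different owners -/
theorem exists_members (h : UM M) (hO : Cfsg.pCore 2 H = ⊥) (hA : IsPGroup 2 A) (hA1 : A ≠ ⊥) :
    ∃ a b : H, ∃ P P' : Sylow 2 H, Mem A J a ∧ Mem A J b ∧ Own M A J a P ∧ Own M A J b P' ∧ M P ≠ M P' := by
  have key : ∀ P P' : Sylow 2 H, M P ≠ M P' → J ≤ P → J ≤ P' → ∃ g, Mem A J g ∧ Own M A J g P := by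
    intro P P' hne h1 h2
    have hneW : J ≠ WW A P := by
      intro e
      apply hne
      apply eq_of_WW_le h hO hA hA1
      rw [← e]
      exact h2.trans (h.le _)
    obtain ⟨g, hg1, hg2⟩ := growth P h1 hJ.gen hneW
    exact ⟨g, ⟨hg1.trans inf_le_left, hg2⟩, (hg1.trans inf_le_right).trans (h.le _), h1.trans (h.le _)⟩
  obtain ⟨P₁, P₂, hPP, hB1, hB2⟩ := hJ.two
  obtain ⟨g₁, hg₁, h₁⟩ := key P₁ P₂ hPP hB1 hB2
  obtain ⟨g₂, hg₂, h₂⟩ := key P₂ P₁ hPP.symm hB2 hB1
  exact ⟨g₁, g₂, P₁, P₂, hg₁, hg₂, h₁, h₂, hPP⟩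

/-- **the `L`-lemma**: two members of `K` with different owners give `L ≤ K` -/
theorem exists_L (h : UM M) (hO : Cfsg.pCore 2 H = ⊥) (hA : IsPGroup 2 A) (hA1 : A ≠ ⊥) {K : Subgroup H} {a₀ b₀ : H}
    {P₀ P₀' : Sylow 2 H} (ha₀ : Mem A J a₀) (hb₀ : Mem A J b₀) (hP₀ : Own M A J a₀ P₀) (hP₀' : Own M A J b₀ P₀')
    (hne₀ : M P₀ ≠ M P₀') (haK : MulAut.conj a₀ • A ≤ K) (hbK : MulAut.conj b₀ • A ≤ K) :
    ∃ a b : H, ∃ P P' : Sylow 2 H, Mem A J a ∧ Mem A J b ∧ Own M A J a P ∧ Own M A J b P' ∧ M P ≠ M P' ∧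
      (MulAut.conj a • A ⊔ MulAut.conj b • A : Subgroup H) ≤ K ∧
      LData M A (MulAut.conj a • A) ((MulAut.conj a • A ⊔ MulAut.conj b • A) ⊓ M P) (MulAut.conj a • A ⊔ MulAut.conj b • A) := by
  have hT := sylow_ne_bot hA hA1
  let T : Set (H × H) := {x | Mem A J x.1 ∧ Mem A J x.2 ∧ (∃ P P' : Sylow 2 H, M P ≠ M P' ∧ Own M A J x.1 P ∧
    Own M A J x.2 P') ∧ MulAut.conj x.1 • A ≤ K ∧ MulAut.conj x.2 • A ≤ K}
  have hTne : T.Nonempty := ⟨(a₀, b₀), ha₀, hb₀, ⟨P₀, P₀', hne₀, hP₀, hP₀'⟩, haK, hbK⟩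
  obtain ⟨⟨a, b⟩, ⟨ha, hb, ⟨P, P', hne, hP, hP'⟩, haK', hbK'⟩, hmin⟩ :=
    Set.exists_min_image T (fun x => Nat.card (MulAut.conj x.1 • A ⊔ MulAut.conj x.2 • A : Subgroup H)) (Set.toFinite T) hTne
  refine ⟨a, b, P, P', ha, hb, hP, hP', hne, sup_le haK' hbK', ?_⟩
  dsimp only at haK' hbK' ha hb hP hP'
  set L : Subgroup H := MulAut.conj a • A ⊔ MulAut.conj b • A with hL
  have hLN : L ≤ normalizer (J : Set H) := sup_le ha.1 hb.1
  have hLK : L ≤ K := sup_le haK' hbK'
  have hself : ∀ l ∈ normalizer (J : Set H), MulAut.conj (l * a) • A ≤ M P → l ∈ M P := by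
    intro l hl hle
    apply h.self hO hT
    rw [← h.conj]
    exact hJ.own_unique hA (mem_mul ha hl) (own_mul h hP hl) ⟨hle, hP.2⟩
  have hLM : ¬ L ≤ M P := by
    intro hle
    exact hne (hJ.own_unique hA hb ⟨le_sup_right.trans hle, hP.2⟩ hP')
  have huniq : ∀ K' : Subgroup H, MulAut.conj a • A ≤ K' → K' ≤ L → K' ≠ L → K' ≤ L ⊓ M P := by
    intro K' hAK hKL hKne
    refine le_inf hKL fun l hl => ?_
    have hlN : l ∈ normalizer (J : Set H) := hLN (hKL hl)
    apply hself l hlN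
    by_contra hcon
    obtain ⟨P'', h1⟩ := hJ.exists_own h hA (mem_mul ha hlN)
    have hne' : M P ≠ M P'' := by
      intro e
      apply hcon
      rw [e]
      exact h1.1
    have h5 : MulAut.conj a • A ⊔ MulAut.conj (l * a) • A ≤ K' := by
      apply sup_le hAK
      rw [← cj_cj, ← cj_of_mem hl]
      exact cj_mono hAK
    have h3 : (a, l * a) ∈ T := ⟨ha, mem_mul ha hlN, ⟨P, P'', hne', hP, h1⟩, haK',
      (le_sup_right.trans h5).trans (hKL.trans hLK)⟩
    have h4 := hmin _ h3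
    have h6 : Nat.card (MulAut.conj a • A ⊔ MulAut.conj (l * a) • A : Subgroup H) ≤ Nat.card K' :=
      Nat.card_le_card_of_injective (inclusion h5) (inclusion_injective h5)
    have h7 : Nat.card K' < Nat.card L := by
      by_contra hc
      push Not at hc
      exact hKne (eq_of_le_of_card_ge hKL hc)
    exact absurd (lt_of_le_of_lt h6 h7) (not_lt.2 h4)
  refine ⟨⟨a, rfl⟩, le_inf le_sup_left hP.1, inf_le_left, ?_, huniq, ?_, ?_⟩
  · intro e
    exact hLM (inf_eq_left.1 e)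
  · intro l hl hle
    refine mem_inf.2 ⟨hl, ?_⟩
    have hlN := hLN hl
    have h1 : MulAut.conj (l⁻¹ * a) • A ≤ M P := by
      rw [← cj_cj, cj_le_iff, inv_inv]
      exact hle.trans (cj_mono inf_le_right)
    have := hself l⁻¹ (inv_mem hlN) h1
    exact inv_mem_iff.1 this
  · intro R hR hR2
    obtain ⟨k, hk, hkR⟩ := exists_sylow_le P (h.le P) (hR.trans inf_le_right) hR2
    refine ⟨k • P, hkR, ?_⟩
    rw [h.conj, cj_of_mem hk]
    exact hLM

end JData

end

end Cfsg.Agent.Omega.MinFF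

end

section


/-!
# OMEGA / SQ0: the K-free FF-theorem for minimal parabolics, PART 1: the quadratic `L`-lemma

`TI A X₁`: `X₁` is the unique maximal subgroup of `X` over `A`, and `A ≤ X₁^g` implies `g ∈ X₁`.
`X` acts faithfully on the elementary abelian 2-group `V`, `A` quadratically.  Then, with `C = C_V(X)`:
`C_V(A) ⊓ C_V(A^g) = C` for `g ∉ X₁`; `C_V(A) C_V(A^g)` is independent of `g` and contains `[V,X]`;
`a ∈ A - O₂(X)` : `[v,a] ∈ C ⇒ v ∈ C_V(A)` for `v ∈ C_V(A) C_V(A^g)`; `A ⊓ X₁^g ≤ O₂(X)` for `g ∉ X₁`.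
-/

set_option autoImplicit false
set_option linter.unusedSectionVars false

open Subgroup
open scoped Pointwise
open Cfsg.Agent.ClassTwoFusion.Quad (cv d mem_cv)

namespace Cfsg.Agent.Omega.MinFF

variable {X : Type*} [Group X]

/-- `X₁` is the unique maximal subgroup over `A`, with the TI property -/
structure TI (A X₁ : Subgroup X) : Prop where
  le : A ≤ X₁
  ne : X₁ ≠ ⊤
  uniq : ∀ K : Subgroup X, A ≤ K → K ≠ ⊤ → K ≤ X₁
  ti : ∀ g : X, A ≤ MulAut.conj g • X₁ → g ∈ X₁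

namespace TI

variable {A X₁ : Subgroup X} (h : TI A X₁)
include h

theorem sup_eq_top {g : X} (hg : g ∉ X₁) : A ⊔ MulAut.conj g • A = ⊤ := by
  by_contra hne
  have h1 := h.uniq _ le_sup_left hne
  have h2 : A ≤ MulAut.conj g⁻¹ • X₁ := by
    rw [← cj_le_iff]
    exact le_sup_right.trans h1
  exact hg (inv_mem_iff.1 (h.ti _ h2))

theorem cj (g : X) : TI (MulAut.conj g • A) (MulAut.conj g • X₁) where
  le := cj_mono h.le
  ne := by
    intro e
    apply h.ne
    apply cj_inj (g := g)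
    rw [e, cj_top]
  uniq := by
    intro K hK hne
    have h1 : A ≤ MulAut.conj g⁻¹ • K := by rwa [← cj_le_iff]
    have h2 : MulAut.conj g⁻¹ • K ≠ ⊤ := by
      intro e
      apply hne
      apply cj_inj (g := g⁻¹)
      rw [e, cj_top]
    have h3 := cj_mono (g := g) (h.uniq _ h1 h2)
    rwa [cj_cj, mul_inv_cancel, cj_one] at h3
  ti := by
    intro x hx
    rw [cj_le_iff, cj_cj, cj_cj] at hx
    have h1 := h.ti _ hx
    rw [mem_cj]
    simpa [mul_assoc] using h1

theorem not_normal [Finite X] : ¬ X₁.Normal := by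
  intro hn
  apply h.ne
  rw [eq_top_iff]
  intro g _
  apply h.ti
  have : MulAut.conj g • X₁ = X₁ := by
    rw [← mem_normalizer_iff_cj, normalizer_eq_top_iff.2 hn]
    trivial
  rw [this]
  exact h.le

/-- `X` is not a 2-group -/
theorem not_isPGroup [Finite X] : ¬ IsPGroup 2 X := by
  intro h2
  have hn : Group.IsNilpotent X := h2.isNilpotent
  have h1 := Group.normalizerCondition_of_isNilpotent (G := X) X₁ (lt_top_iff_ne_top.2 h.ne)
  obtain ⟨x, hx1, hx2⟩ := SetLike.exists_of_lt h1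
  apply hx2
  apply h.ti
  rw [mem_normalizer_iff_cj.1 hx1]
  exact h.le

theorem sylow_le [Finite X] {R : Sylow 2 X} (hR : A ≤ (R : Subgroup X)) : (R : Subgroup X) ≤ X₁ := by
  apply h.uniq _ hR
  intro e
  apply h.not_isPGroup
  have h1 := R.isPGroup'
  rw [e] at h1
  exact h1.of_equiv topEquiv

/-- an element of `A` lying in all conjugates of `X₁` lies in `O₂(X)` -/
theorem mem_pCore [Finite X] (hA : IsPGroup 2 A) {a : X} (ha : a ∈ A) (hall : ∀ g, g ∉ X₁ → a ∈ MulAut.conj g • X₁) :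
    a ∈ Cfsg.pCore 2 X := by
  obtain ⟨R, hR⟩ := hA.exists_le_sylow
  have hfr := Lib.SylowNormalInf.normalizer_inf_sup_eq_top R X₁.normalCore
  have h1 : (R : Subgroup X) ⊓ X₁.normalCore ≤ Cfsg.pCore 2 X := by
    apply le_pCore
    · rw [← normalizer_eq_top_iff]
      by_contra hne
      have h2 : normalizer (((R : Subgroup X) ⊓ X₁.normalCore : Subgroup X) : Set X) ≤ X₁ := by
        apply h.uniq _ _ hne
        intro x hx
        rw [mem_normalizer_iff_cj]
        ext y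
        rw [mem_cj, mem_inf, mem_inf]
        have h3 : x⁻¹ * y * x ∈ (R : Subgroup X) ↔ y ∈ (R : Subgroup X) := by
          rw [← mem_cj, cj_of_mem (hR hx)]
        have h4 : x⁻¹ * y * x ∈ X₁.normalCore ↔ y ∈ X₁.normalCore := by
          constructor
          · intro h5
            have h6 := (inferInstance : X₁.normalCore.Normal).conj_mem _ h5 x
            simpa [mul_assoc] using h6
          · intro h5
            have h6 := (inferInstance : X₁.normalCore.Normal).conj_mem _ h5 x⁻¹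
            simpa [mul_assoc] using h6
        rw [h3, h4]
      apply h.ne
      rw [eq_top_iff, ← hfr]
      exact sup_le h2 X₁.normalCore_le
    · exact R.isPGroup'.to_le inf_le_left
  apply h1
  refine mem_inf.2 ⟨hR ha, ?_⟩
  rw [normalCore]
  intro b
  by_cases hb : b⁻¹ ∈ X₁
  · have hb' : b ∈ X₁ := inv_mem_iff.1 hb
    exact mul_mem (mul_mem hb' (h.le ha)) hb
  · have h2 := hall _ hb
    rw [mem_cj, inv_inv] at h2
    exact h2

end TI

section action

variable {V : Type*} [CommGroup V] [MulDistribMulAction X V]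

theorem inv_eq (hsq : ∀ v : V, v * v = 1) (v : V) : v⁻¹ = v := inv_eq_of_mul_eq_one_left (hsq v)

theorem smul_eq (hsq : ∀ v : V, v * v = 1) (x : X) (v : V) : x • v = d x v * v := by
  unfold d
  rw [mul_assoc, hsq, mul_one]

theorem d_mul (x : X) (v w : V) : d x (v * w) = d x v * d x w := by
  unfold d
  rw [smul_mul']
  exact mul_mul_mul_comm _ _ _ _

theorem d_eq_one (hsq : ∀ v : V, v * v = 1) {x : X} {v : V} : d x v = 1 ↔ x • v = v := by
  unfold d
  rw [mul_eq_one_iff_eq_inv, inv_eq hsq]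

/-- `v ↦ [v, x]` -/
def dh (x : X) : V →* V := MonoidHom.mk' (fun v => d x v) (d_mul x)

theorem dh_apply (x : X) (v : V) : dh x v = d x v := rfl

theorem d_conj (g x : X) (v : V) : d (g * x * g⁻¹) (g • v) = g • d x v := by
  unfold d
  rw [smul_mul', smul_smul, smul_smul]
  congr 2
  group

/-- `C_V(X)` -/
abbrev CC (X V : Type*) [Group X] [CommGroup V] [MulDistribMulAction X V] : Subgroup V := cv V (Set.univ : Set X)

theorem mem_CC {v : V} : v ∈ CC X V ↔ ∀ x : X, x • v = v :=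
  ⟨fun h x => h x trivial, fun h x _ => h x⟩

theorem CC_le (S : Set X) : CC X V ≤ cv V S := fun _ hv a _ => hv a trivial

theorem smul_mem_cv_cj {g : X} {A : Subgroup X} {v : V} :
    g • v ∈ cv V ((MulAut.conj g • A : Subgroup X) : Set X) ↔ v ∈ cv V (A : Set X) := by
  constructor
  · intro hv a ha
    have h1 := hv (g * a * g⁻¹) (conj_mem_cj ha)
    rw [smul_smul, inv_mul_cancel_right, mul_smul] at h1
    exact (smul_left_cancel_iff g).1 h1
  · intro hv a ha
    have h1 : g⁻¹ * a * g ∈ A := mem_cj.1 ha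
    have h2 := hv _ h1
    calc a • g • v = g • (g⁻¹ * a * g) • v := by
          rw [smul_smul, smul_smul]
          congr 1
          group
      _ = g • v := by rw [h2]

theorem mem_cv_cj {g : X} {A : Subgroup X} {v : V} :
    v ∈ cv V ((MulAut.conj g • A : Subgroup X) : Set X) ↔ g⁻¹ • v ∈ cv V (A : Set X) := by
  rw [← smul_mem_cv_cj (g := g) (A := A), smul_inv_smul]

theorem card_cv_cj (g : X) (A : Subgroup X) :
    Nat.card (cv V ((MulAut.conj g • A : Subgroup X) : Set X)) = Nat.card (cv V (A : Set X)) := by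
  refine Nat.card_congr ⟨fun v => ⟨g⁻¹ • (v : V), mem_cv_cj.1 v.2⟩, fun v => ⟨g • (v : V), smul_mem_cv_cj.2 v.2⟩, ?_, ?_⟩
  · intro v
    ext
    exact smul_inv_smul g (v : V)
  · intro v
    ext
    exact inv_smul_smul g (v : V)

end action

namespace TI

variable {V : Type*} [CommGroup V] [MulDistribMulAction X V] {A X₁ : Subgroup X} (h : TI A X₁)
include h

/-- (1) the stabiliser of `v ∈ C_V(A) - C_V(X)` -/
theorem stab_le {v : V} (hv : v ∈ cv V (A : Set X)) (hvC : v ∉ CC X V) {x : X} (hx : x • v = v) : x ∈ X₁ := by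
  have h1 : A ≤ MulAction.stabilizer X v := fun a ha => hv a ha
  have h2 : MulAction.stabilizer X v ≠ ⊤ := by
    intro e
    apply hvC
    rw [mem_CC]
    intro y
    have : y ∈ MulAction.stabilizer X v := by rw [e]; trivial
    exact this
  exact h.uniq _ h1 h2 hx

theorem inf_le {g : X} (hg : g ∉ X₁) {v : V} (hv : v ∈ cv V (A : Set X))
    (hv' : v ∈ cv V ((MulAut.conj g • A : Subgroup X) : Set X)) : v ∈ CC X V := by
  have h1 : A ⊔ MulAut.conj g • A ≤ MulAction.stabilizer X v := sup_le (fun a ha => hv a ha) (fun a ha => hv' a ha)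
  rw [h.sup_eq_top hg] at h1
  rw [mem_CC]
  intro y
  exact h1 (mem_top y)

variable (hsq : ∀ v : V, v * v = 1)
include hsq

/-- `[V, X] ≤ C_V(A) C_V(A^g)` -/
theorem d_mem (hq : ∀ a ∈ A, ∀ a' ∈ A, ∀ v : V, a' • d a v = d a v) {g : X} (hg : g ∉ X₁) (x : X) (v : V) :
    d x v ∈ cv V (A : Set X) ⊔ cv V ((MulAut.conj g • A : Subgroup X) : Set X) := by
  set U := cv V (A : Set X) ⊔ cv V ((MulAut.conj g • A : Subgroup X) : Set X) with hU
  let K : Subgroup X :=
    { carrier := {x | ∀ v : V, d x v ∈ U}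
      mul_mem' := by
        intro x y hx hy v
        have e : d (x * y) v = d x (y • v) * d y v := by
          unfold d
          rw [mul_smul]
          calc (x • y • v) * v = (x • y • v) * ((y • v) * (y • v)) * v := by rw [hsq, mul_one]
            _ = _ := by simp only [mul_assoc]
        rw [e]
        exact mul_mem (hx _) (hy _)
      one_mem' := by
        intro v
        unfold d
        rw [one_smul, hsq]
        exact one_mem _
      inv_mem' := by
        intro x hx v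
        have e : d x⁻¹ v = d x (x⁻¹ • v) := by
          unfold d
          rw [smul_inv_smul, mul_comm]
        rw [e]
        exact hx _ }
  have h1 : A ≤ K := fun a ha v => mem_sup_left (fun b hb => hq a ha b hb v)
  have h2 : MulAut.conj g • A ≤ K := by
    intro a ha v
    apply mem_sup_right
    have h3 : g⁻¹ * a * g ∈ A := mem_cj.1 ha
    have e : d a v = g • d (g⁻¹ * a * g) (g⁻¹ • v) := by
      rw [← d_conj, smul_inv_smul]
      congr 1
      group
    rw [e, smul_mem_cv_cj]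
    exact fun b hb => hq _ h3 b hb _
  have h3 := sup_le h1 h2
  rw [h.sup_eq_top hg] at h3
  exact h3 (mem_top x) v

/-- `C_V(A^k) ≤ C_V(A) C_V(A^g)` for all `k` -/
theorem cv_le (hq : ∀ a ∈ A, ∀ a' ∈ A, ∀ v : V, a' • d a v = d a v) {g : X} (hg : g ∉ X₁) (k : X) :
    cv V ((MulAut.conj k • A : Subgroup X) : Set X) ≤
      cv V (A : Set X) ⊔ cv V ((MulAut.conj g • A : Subgroup X) : Set X) := by
  intro v hv
  have h1 := mem_cv_cj.1 hv
  have e : v = d k (k⁻¹ • v) * (k⁻¹ • v) := by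
    rw [← smul_eq hsq, smul_inv_smul]
  rw [e]
  exact mul_mem (h.d_mem hsq hq hg _ _) (mem_sup_left h1)

/-- (2) -/
theorem mem_of_d_mem {g b : X} {v : V} (hv : v ∈ cv V ((MulAut.conj g • A : Subgroup X) : Set X)) (hvC : v ∉ CC X V)
    (hb : d b v ∈ CC X V) : b ∈ MulAut.conj g • X₁ := by
  have hb1 : b • v = d b v * v := smul_eq hsq b v
  have hc : ∀ y : X, y • d b v = d b v := fun y => mem_CC.1 hb y
  have hst : ∀ y : X, y • v = v → (b * y * b⁻¹) • v = v := by
    intro y hy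
    have h1 : b⁻¹ • v = d b v * v := by
      rw [inv_smul_eq_iff, smul_mul', hc, hb1, ← mul_assoc, hsq, one_mul]
    rw [mul_smul, mul_smul, h1, smul_mul', hc, hy, smul_mul', hc, hb1, ← mul_assoc, hsq, one_mul]
  have h1 : MulAut.conj (b * g) • A ≤ MulAut.conj g • X₁ := by
    intro x hx
    apply (h.cj g).stab_le hv hvC
    rw [← cj_cj, mem_cj] at hx
    have h2 := hst _ (hv _ hx)
    have e : b * (b⁻¹ * x * b) * b⁻¹ = x := by group
    rwa [e] at h2
  rw [cj_le_iff, cj_cj] at h1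
  have h2 := h.ti _ h1
  rw [mem_cj]
  have e : g⁻¹ * b * g = ((b * g)⁻¹ * g)⁻¹ := by group
  rw [e]
  exact inv_mem h2

/-- (6a) -/
theorem mem_cv_of_d_mem {a g : X} (ha : a ∈ A) (hga : a ∉ MulAut.conj g • X₁) {v : V}
    (hv : v ∈ cv V (A : Set X) ⊔ cv V ((MulAut.conj g • A : Subgroup X) : Set X)) (hd : d a v ∈ CC X V) :
    v ∈ cv V (A : Set X) := by
  obtain ⟨v₁, h₁, v₂, h₂, rfl⟩ := mem_sup.1 hv
  have h3 : d a v₁ = 1 := (d_eq_one hsq).2 (h₁ a ha)
  rw [d_mul, h3, one_mul] at hd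
  have h4 : v₂ ∈ CC X V := by
    by_contra hne
    exact hga (h.mem_of_d_mem hsq h₂ hne hd)
  exact mul_mem h₁ (CC_le _ h4)

/-- (6b) `[C_V(A^g), a] C = C_V(A)` -/
theorem exists_d_mul_mem [Finite V] (hq : ∀ a ∈ A, ∀ a' ∈ A, ∀ v : V, a' • d a v = d a v) {a g : X} (ha : a ∈ A)
    (hga : a ∉ MulAut.conj g • X₁) {w : V} (hw : w ∈ cv V (A : Set X)) :
    ∃ v ∈ cv V ((MulAut.conj g • A : Subgroup X) : Set X), d a v * w ∈ CC X V := by
  set C := CC X V with hC
  set U := cv V (A : Set X) with hU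
  set W := cv V ((MulAut.conj g • A : Subgroup X) : Set X) with hW
  let f : W →* V ⧸ C := (QuotientGroup.mk' C).comp ((dh a).comp W.subtype)
  have hker : f.ker = C.subgroupOf W := by
    ext v
    rw [MonoidHom.mem_ker, mem_subgroupOf]
    show (QuotientGroup.mk' C) (d a (v : V)) = 1 ↔ _
    rw [← MonoidHom.mem_ker, QuotientGroup.ker_mk']
    constructor
    · intro hv
      by_contra hne
      exact hga (h.mem_of_d_mem hsq v.2 hne hv)
    · intro hv
      rw [(d_eq_one hsq).2 (mem_CC.1 hv a)]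
      exact one_mem _
  have hr : f.range ≤ U.map (QuotientGroup.mk' C) := by
    rintro _ ⟨v, rfl⟩
    exact ⟨d a v, fun b hb => hq a ha b hb _, rfl⟩
  have h1 : Nat.card f.range * Nat.card f.ker = Nat.card W := by
    rw [← index_ker, mul_comm]
    exact f.ker.card_mul_index
  have h2 : Nat.card (U.map (QuotientGroup.mk' C)) * Nat.card C = Nat.card U := by
    let f' : U →* V ⧸ C := (QuotientGroup.mk' C).comp U.subtype
    have e1 : f'.range = U.map (QuotientGroup.mk' C) := by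
      ext x
      constructor
      · rintro ⟨v, rfl⟩
        exact ⟨v, v.2, rfl⟩
      · rintro ⟨v, hv, rfl⟩
        exact ⟨⟨v, hv⟩, rfl⟩
    have e2 : f'.ker = C.subgroupOf U := by
      ext v
      rw [MonoidHom.mem_ker, mem_subgroupOf]
      show (QuotientGroup.mk' C) (v : V) = 1 ↔ _
      rw [← MonoidHom.mem_ker, QuotientGroup.ker_mk']
    have e3 : Nat.card f'.range * Nat.card f'.ker = Nat.card U := by
      rw [← index_ker, mul_comm]
      exact f'.ker.card_mul_index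
    rw [← e1, ← e3, e2, Nat.card_congr (subgroupOfEquivOfLe (CC_le (V := V) (A : Set X))).toEquiv]
  have h3 : Nat.card f.ker = Nat.card C := by
    rw [hker]
    exact Nat.card_congr (subgroupOfEquivOfLe (CC_le _)).toEquiv
  have h4 : Nat.card W = Nat.card U := card_cv_cj g A
  have h5 : f.range = U.map (QuotientGroup.mk' C) := by
    apply eq_of_le_of_card_ge hr
    apply Nat.le_of_mul_le_mul_right _ (Nat.card_pos (α := C))
    rw [h2, ← h4, ← h1, h3]
  have h6 : (QuotientGroup.mk' C) w ∈ f.range := by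
    rw [h5]
    exact ⟨w, hw, rfl⟩
  obtain ⟨v, hv⟩ := h6
  refine ⟨v, v.2, ?_⟩
  have h7 : (QuotientGroup.mk' C) (d a (v : V)) = (QuotientGroup.mk' C) w := hv
  rw [QuotientGroup.mk'_apply, QuotientGroup.mk'_apply, QuotientGroup.eq, inv_eq hsq] at h7
  exact h7

end TI

end Cfsg.Agent.Omega.MinFF

end

section


/-!
# OMEGA / SQ0: the K-free FF-theorem for minimal parabolics, PART 1: `A ⊓ X₁^g ≤ O₂(X)`, the FF-step

`TI A X₁`, `X` faithful and `A` quadratic on the elementary abelian 2-group `V`.  If `|V| ≤ |A||C_V(A)|`, the proper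
subgroups `≠ 1` of `A` are worse, and some element of `C_V(A)` is fixed by `O₂(X)` and not by `X`, then `O₂(X) = 1`,
`|A| = |V : C_V(A)| = |C_V(A) : C_V(X)|`.
-/

set_option autoImplicit false
set_option linter.unusedSectionVars false

open Subgroup
open scoped Pointwise
open Cfsg.Agent.ClassTwoFusion.Quad (cv d mem_cv)

namespace Cfsg.Agent.Omega.MinFF

variable {X : Type*} [Group X] {V : Type*} [CommGroup V] [MulDistribMulAction X V]

instance quotAct : MulAction.QuotientAction X (CC X V) :=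
  ⟨fun x {a a'} h => by
    have e : (x • a)⁻¹ * x • a' = x • (a⁻¹ * a') := by rw [smul_mul', smul_inv']
    rw [e, mem_CC.1 h x]
    exact h⟩

/-- a 2-group fixes a nontrivial element of `U / C` -/
theorem exists_fix_mod [Finite X] [Finite V] (hsq : ∀ v : V, v * v = 1) {R : Subgroup X} (hR : IsPGroup 2 R)
    {U : Subgroup V} (hU : ∀ x ∈ R, ∀ v ∈ U, x • v ∈ U) {u : V} (hu : u ∈ U) (huC : u ∉ CC X V) :
    ∃ v ∈ U, v ∉ CC X V ∧ ∀ x ∈ R, d x v ∈ CC X V := by
  let S : SubMulAction R (V ⧸ CC X V) :=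
    { carrier := (U.map (QuotientGroup.mk' (CC X V)) : Set (V ⧸ CC X V))
      smul_mem' := by
        rintro x _ ⟨v, hv, rfl⟩
        exact ⟨(x : X) • v, hU x x.2 v hv, rfl⟩ }
  have hcard : 2 ∣ Nat.card S := by
    have h1 : Nat.card S = Nat.card (U.map (QuotientGroup.mk' (CC X V))) := rfl
    rw [h1]
    have h2 : (QuotientGroup.mk' (CC X V)) u ∈ U.map (QuotientGroup.mk' (CC X V)) := ⟨u, hu, rfl⟩
    have h3 : orderOf ((QuotientGroup.mk' (CC X V)) u) = 2 := by
      apply orderOf_eq_prime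
      · rw [← map_pow, pow_two, hsq, map_one]
      · intro e
        apply huC
        have : u ∈ (QuotientGroup.mk' (CC X V)).ker := e
        rwa [QuotientGroup.ker_mk'] at this
    rw [← h3]
    exact Subgroup.orderOf_dvd_natCard _ h2
  have h1S : (1 : V ⧸ CC X V) ∈ S := ⟨1, one_mem _, rfl⟩
  have hfix : (⟨1, h1S⟩ : S) ∈ MulAction.fixedPoints R S := by
    intro x
    apply Subtype.ext
    show ((x : X) • ((1 : V) : V ⧸ CC X V)) = ((1 : V) : V ⧸ CC X V)
    rw [MulAction.Quotient.smul_coe, smul_one]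
  obtain ⟨⟨b, hbS⟩, hb, hne⟩ := hR.exists_fixed_point_of_prime_dvd_card_of_fixed_point S hcard hfix
  obtain ⟨v, hv, rfl⟩ := hbS
  refine ⟨v, hv, ?_, ?_⟩
  · intro hvC
    apply hne
    apply Subtype.ext
    have : v ∈ (QuotientGroup.mk' (CC X V)).ker := by rwa [QuotientGroup.ker_mk']
    exact this.symm
  · intro x hx
    have h1 := congrArg Subtype.val (hb ⟨x, hx⟩)
    have h2 : ((x • v : V) : V ⧸ CC X V) = ((v : V) : V ⧸ CC X V) := h1
    rw [QuotientGroup.eq, inv_eq hsq] at h2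
    exact h2

/-- `[v, ab] = [v,a][v,b]` -/
theorem d_mul_left {A : Subgroup X} (hsq : ∀ v : V, v * v = 1)
    (hq : ∀ a ∈ A, ∀ a' ∈ A, ∀ v : V, a' • d a v = d a v) {a b : X} (ha : a ∈ A) (hb : b ∈ A) (v : V) :
    d (a * b) v = d a v * d b v := by
  have h1 := hq b hb a ha v
  have e : (a * b) • v = a • (d b v * v) := by rw [mul_smul, smul_eq hsq b v]
  unfold d at *
  rw [e, smul_mul', h1]
  rw [mul_assoc, mul_comm]

theorem sq_of_quad {A : Subgroup X} (hsq : ∀ v : V, v * v = 1) (hf : ∀ x : X, (∀ v : V, x • v = v) → x = 1)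
    (hq : ∀ a ∈ A, ∀ a' ∈ A, ∀ v : V, a' • d a v = d a v) : ∀ a ∈ A, a * a = 1 := by
  intro a ha
  apply hf
  intro v
  rw [← d_eq_one hsq, d_mul_left hsq hq ha ha, hsq]

theorem isPGroup_of_sq {A : Subgroup X} (hA : ∀ a ∈ A, a * a = 1) : IsPGroup 2 A := by
  intro a
  refine ⟨1, ?_⟩
  apply Subtype.ext
  show (a : X) ^ (2 ^ 1) = 1
  rw [pow_one, pow_two]
  exact hA a a.2

namespace TI

variable {A X₁ : Subgroup X} (h : TI A X₁)
include h

theorem exists_not_mem : ∃ g : X, g ∉ X₁ := by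
  by_contra hcon
  push Not at hcon
  exact h.ne (eq_top_iff.2 fun g _ => hcon g)

theorem not_le_pCore [Finite X] : ¬ A ≤ Cfsg.pCore 2 X := by
  intro hle
  have hO : (Cfsg.pCore 2 X).Normal := Lib.Cores.pCore_normal 2
  obtain ⟨g, hg⟩ := h.exists_not_mem
  have h1 : MulAut.conj g • A ≤ Cfsg.pCore 2 X := by
    intro x hx
    have h2 := hO.conj_mem _ (hle (mem_cj.1 hx)) g
    have e : g * (g⁻¹ * x * g) * g⁻¹ = x := by group
    rwa [e] at h2
  have h2 := sup_le hle h1
  rw [h.sup_eq_top hg, top_le_iff] at h2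
  apply h.not_isPGroup
  have h3 := Lib.Cores.pCore_isPGroup (G := X) 2
  rw [h2] at h3
  exact h3.of_equiv topEquiv

/-- `A` does not lie in `O₂(X)`: there is `a ∈ A` outside `X₁^g` for some `g ∉ X₁` -/
theorem exists_good [Finite X] (hA : IsPGroup 2 A) {a : X} (ha : a ∈ A) (hO : a ∉ Cfsg.pCore 2 X) :
    ∃ g, g ∉ X₁ ∧ a ∉ MulAut.conj g • X₁ := by
  by_contra hcon
  push Not at hcon
  exact hO (h.mem_pCore hA ha hcon)

variable (hsq : ∀ v : V, v * v = 1) (hf : ∀ x : X, (∀ v : V, x • v = v) → x = 1)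
  (hq : ∀ a ∈ A, ∀ a' ∈ A, ∀ v : V, a' • d a v = d a v)
include hsq hf hq

/-- `C_V(A) ≠ C_V(X)` -/
theorem exists_mem_cv [Finite X] : ∃ v ∈ cv V (A : Set X), v ∉ CC X V := by
  by_contra hcon
  push Not at hcon
  obtain ⟨g, hg⟩ := h.exists_not_mem
  have h1 : cv V (A : Set X) ⊔ cv V ((MulAut.conj g • A : Subgroup X) : Set X) ≤ CC X V := by
    apply sup_le hcon
    intro v hv
    have h2 := hcon _ (mem_cv_cj.1 hv)
    have h3 := mem_CC.1 h2 g
    rw [smul_inv_smul] at h3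
    rw [h3]
    exact h2
  have h2 : ∀ (x : X) (v : V), d x v ∈ CC X V := fun x v => h1 (h.d_mem hsq hq hg x v)
  have h3 := sq_of_quad (A := (⊤ : Subgroup X)) hsq hf fun a _ a' _ v => mem_CC.1 (h2 a v) a'
  apply h.not_isPGroup
  exact (isPGroup_of_sq h3).of_equiv topEquiv

/-- **L11** -/
theorem inf_le_pCore [Finite X] [Finite V] {g : X} (hg : g ∉ X₁) : A ⊓ MulAut.conj g • X₁ ≤ Cfsg.pCore 2 X := by
  have hA : IsPGroup 2 A := isPGroup_of_sq (sq_of_quad hsq hf hq)
  intro a ha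
  by_contra hO
  obtain ⟨ha, hag⟩ := mem_inf.1 ha
  obtain ⟨R₀, hR₀⟩ := (isPGroup_cj hA g).exists_le_sylow
  have hR₀le : (R₀ : Subgroup X) ≤ MulAut.conj g • X₁ := (h.cj g).sylow_le hR₀
  have hz : IsPGroup 2 (zpowers a) := hA.to_le (zpowers_le.2 ha)
  obtain ⟨k, hk, hkR⟩ := exists_sylow_le R₀ hR₀le (zpowers_le.2 hag) hz
  have haR : a ∈ ((k • R₀ : Sylow 2 X) : Subgroup X) := hkR (mem_zpowers a)
  have hAR : MulAut.conj (k * g) • A ≤ ((k • R₀ : Sylow 2 X) : Subgroup X) := by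
    rw [← cj_cj, coe_smul_sylow]
    exact cj_mono hR₀
  have hkg : k * g ∉ X₁ := by
    intro hcon
    apply hg
    have h1 := mem_cj.1 hk
    have h2 := mul_mem hcon (inv_mem h1)
    have e : k * g * (g⁻¹ * k * g)⁻¹ = g := by group
    rwa [e] at h2
  -- fixed point modulo `C`
  set U := cv V (A : Set X) ⊔ cv V ((MulAut.conj g • A : Subgroup X) : Set X) with hU
  obtain ⟨u, hu, huC⟩ := h.exists_mem_cv hsq hf hq
  have hUinv : ∀ x ∈ ((k • R₀ : Sylow 2 X) : Subgroup X), ∀ v ∈ U, x • v ∈ U := by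
    intro x _ v hv
    rw [smul_eq hsq]
    exact mul_mem (h.d_mem hsq hq hg x v) hv
  obtain ⟨v, hvU, hvC, hv⟩ := exists_fix_mod hsq (k • R₀).isPGroup' hUinv (mem_sup_left hu) huC
  -- `v ∈ C_V(A)`
  obtain ⟨g', hg', hag'⟩ := h.exists_good hA ha hO
  have hUle : ∀ y : X, y ∉ X₁ → U ≤ cv V (A : Set X) ⊔ cv V ((MulAut.conj y • A : Subgroup X) : Set X) := by
    intro y hy
    exact sup_le le_sup_left (h.cv_le hsq hq hy g)
  have h1 : v ∈ cv V (A : Set X) := h.mem_cv_of_d_mem hsq ha hag' (hUle g' hg' hvU) (hv a haR)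
  -- `v ∈ C_V(A^{kg})`
  have hB := h.cj (k * g)
  have hBq : ∀ a ∈ MulAut.conj (k * g) • A, ∀ a' ∈ MulAut.conj (k * g) • A, ∀ v : V, a' • d a v = d a v := by
    intro b hb b' hb' v
    have h2 := hq _ (mem_cj.1 hb) _ (mem_cj.1 hb') ((k * g)⁻¹ • v)
    have e1 : d b v = (k * g) • d ((k * g)⁻¹ * b * (k * g)) ((k * g)⁻¹ • v) := by
      rw [← d_conj, smul_inv_smul]
      congr 1
      group
    rw [e1]
    nth_rw 2 [← h2]
    rw [smul_smul, smul_smul]
    congr 1
    group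
  have hBp := isPGroup_cj hA (k * g)
  have hBO := hB.not_le_pCore
  obtain ⟨b, hb, hbO⟩ := Set.not_subset.1 hBO
  obtain ⟨g'', hg'', hbg''⟩ := hB.exists_good hBp hb hbO
  have hUle' : U ≤ cv V ((MulAut.conj (k * g) • A : Subgroup X) : Set X) ⊔
      cv V ((MulAut.conj g'' • MulAut.conj (k * g) • A : Subgroup X) : Set X) := by
    apply sup_le
    · have h2 := hB.cv_le hsq hBq hg'' (k * g)⁻¹
      rwa [cj_cj, inv_mul_cancel, cj_one] at h2
    · have h2 := hB.cv_le hsq hBq hg'' (g * (k * g)⁻¹)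
      rwa [cj_cj, inv_mul_cancel_right] at h2
  have h2 : v ∈ cv V ((MulAut.conj (k * g) • A : Subgroup X) : Set X) :=
    hB.mem_cv_of_d_mem hsq hb hbg'' (hUle' hvU) (hv b (hAR hb))
  exact hvC (h.inf_le hkg h1 h2)

end TI

end Cfsg.Agent.Omega.MinFF

end

section


/-!
# THEOREM L (#18749, helper344), (0): the `L`-lemma, lifted

`S` a Sylow 2-subgroup of the finite group `X`, `N` the unique maximal subgroup of `X` over `S`, `A` a 2-subgroup which
is not contained in `O₂(X)`.  Then there are `x`, `y` such that, in `X₁ = ⟨A, A^x⟩`, `X₁ ∩ N^y` is the unique maximal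
subgroup over `A`, with the TI property.
-/

set_option autoImplicit false

open Subgroup
open scoped Pointwise

namespace Cfsg.Agent.Omega.NO3b.TheoremL.Lift

open Cfsg.Agent.Omega Cfsg.Agent.Omega.MinFF

variable {X : Type*} [Group X]

theorem map_cj {H : Type*} [Group H] (f : X →* H) (g : X) (A : Subgroup X) :
    (MulAut.conj g • A).map f = MulAut.conj (f g) • A.map f := by
  ext h
  rw [mem_cj, mem_map, mem_map]
  constructor
  · rintro ⟨x, hx, rfl⟩
    rw [mem_cj] at hx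
    exact ⟨_, hx, by simp⟩
  · rintro ⟨x, hx, he⟩
    refine ⟨g * x * g⁻¹, conj_mem_cj hx, ?_⟩
    rw [map_mul, map_mul, he, map_inv]; group

theorem exists_pre [Finite X] (S : Sylow 2 X) (N : Subgroup X) (hS : (S : Subgroup X) ≤ N) (hN : N ≠ ⊤)
    (uniq : ∀ K : Subgroup X, (S : Subgroup X) ≤ K → K ≠ ⊤ → K ≤ N) {A : Subgroup X} (hA : IsPGroup 2 A)
    (hQ : ¬ A ≤ Cfsg.pCore 2 X) : ∃ (y : X) (L : Subgroup X), A ≤ L ∧ A ≤ MulAut.conj y • N ∧
      ¬ L ≤ MulAut.conj y • N ∧ ∀ l ∈ L, A ≤ MulAut.conj l • (L ⊓ MulAut.conj y • N) → l ∈ MulAut.conj y • N := by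
  have hf : Fact (Nat.Prime 2) := ⟨Nat.prime_two⟩
  have hn : (Cfsg.pCore 2 X).Normal := Lib.Cores.pCore_normal 2
  set Q := Cfsg.pCore 2 X with hQd
  set f := QuotientGroup.mk' Q with hfd
  have hfs : Function.Surjective f := QuotientGroup.mk'_surjective Q
  have hker : f.ker = Q := QuotientGroup.ker_mk' Q
  have hQS : Q ≤ (S : Subgroup X) := Lib.Cores.pCore_le_sylow S
  have hQN : ∀ y : X, Q ≤ MulAut.conj y • N := by
    intro y q hq
    rw [mem_cj]
    apply hS
    apply hQS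
    have := hn.conj_mem q hq y⁻¹
    rwa [inv_inv] at this
  have hex : ∀ P : Sylow 2 (X ⧸ Q), ∃ z : X, (MulAut.conj z • (S : Subgroup X)).map f = P := by
    intro P
    let P0 : Sylow 2 (X ⧸ Q) := S.mapSurjective hfs
    obtain ⟨g, hg⟩ := MulAction.exists_smul_eq (X ⧸ Q) P0 P
    obtain ⟨z, rfl⟩ := hfs g
    refine ⟨z, ?_⟩
    rw [map_cj, ← hg, coe_smul_sylow]
    rfl
  choose z hz using hex
  let M : Sylow 2 (X ⧸ Q) → Subgroup (X ⧸ Q) := fun P => (MulAut.conj (z P) • N).map f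
  have hcomap : ∀ y : X, ((MulAut.conj y • N).map f).comap f = MulAut.conj y • N := by
    intro y
    rw [comap_map_eq, hker]
    exact sup_eq_left.2 (hQN y)
  have hM : UM M := by
    refine ⟨fun P => ?_, fun P => ?_, fun P K hK hne => ?_⟩
    · conv_lhs => rw [← hz P]
      exact map_mono (cj_mono hS)
    · intro h
      have h1 := hcomap (z P)
      have h2 : (MulAut.conj (z P) • N).map f = ⊤ := h
      rw [h2, comap_top] at h1
      apply hN
      apply cj_inj (g := z P)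
      rw [← h1, cj_top]
    · have h1 : MulAut.conj (z P) • (S : Subgroup X) ≤ K.comap f := by
        rw [← map_le_iff_le_comap, hz P]; exact hK
      have h2 : MulAut.conj (z P)⁻¹ • K.comap f ≠ ⊤ := by
        intro h3
        apply hne
        have h4 : K.comap f = ⊤ := by
          apply cj_inj (g := (z P)⁻¹)
          rw [h3, cj_top]
        rw [← map_comap_eq_self_of_surjective hfs K, h4]
        exact map_top_of_surjective f hfs
      have h3 := uniq _ (by
        have := cj_mono (g := (z P)⁻¹) h1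
        rwa [cj_cj, inv_mul_cancel, cj_one] at this) h2
      have h4 := cj_mono (g := z P) h3
      rw [cj_cj, mul_inv_cancel, cj_one] at h4
      rw [← map_comap_eq_self_of_surjective hfs K]
      exact map_mono h4
  have hO : Cfsg.pCore 2 (X ⧸ Q) = ⊥ := Lib.Cores.pCore_quotient_pCore 2
  have hA' : IsPGroup 2 (A.map f) := hA.map f
  have hA1 : A.map f ≠ ⊥ := by
    intro h
    rw [Subgroup.map_eq_bot_iff, hker] at h
    exact hQ h
  obtain ⟨J, hJ⟩ := exists_J hM hO hA' hA1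
  obtain ⟨a, b, P, P', ha, hb, hP, hP', hne⟩ := hJ.exists_members hM hO hA' hA1
  obtain ⟨a, b, P, P', ha, hb, hP, hP', hne, -, hL⟩ := hJ.exists_L hM hO hA' hA1 (K := ⊤) ha hb hP hP' hne le_top le_top
  set L := MulAut.conj a • A.map f ⊔ MulAut.conj b • A.map f with hLd
  obtain ⟨g, rfl⟩ := hfs a
  have hmap : (MulAut.conj (g⁻¹ * z P) • N).map f = MulAut.conj (f g)⁻¹ • M P := by
    rw [← cj_cj, map_cj, map_inv]
  refine ⟨g⁻¹ * z P, (MulAut.conj (f g)⁻¹ • L).comap f, ?_, ?_, ?_, ?_⟩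
  · intro x hx
    rw [mem_comap, mem_cj, inv_inv]
    exact (le_sup_left : _ ≤ L) (conj_mem_cj (mem_map_of_mem f hx))
  · have h1 : A.map f ≤ (MulAut.conj (g⁻¹ * z P) • N).map f := by
      rw [hmap, ← cj_le_iff]
      exact hL.A_le.trans inf_le_right
    rw [map_le_iff_le_comap, hcomap] at h1
    exact h1
  · intro h
    have h1 := map_mono (f := f) h
    rw [map_comap_eq_self_of_surjective hfs, hmap] at h1
    have h2 := cj_mono (g := f g) h1
    rw [cj_cj, mul_inv_cancel, cj_one, cj_cj, mul_inv_cancel, cj_one] at h2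
    exact hL.ne (inf_eq_left.2 h2)
  · intro l hl hle
    rw [mem_comap, mem_cj, inv_inv] at hl
    have h1 : f g * f l * (f g)⁻¹ ∈ L ⊓ M P := by
      apply hL.ti _ hl
      intro y hy
      rw [mem_cj] at hy
      obtain ⟨x, hx, hxy⟩ := hy
      have h2 := hle hx
      rw [mem_cj] at h2
      obtain ⟨h3, h4⟩ := mem_inf.1 h2
      rw [mem_comap, mem_cj, inv_inv] at h3
      have h5 : f (l⁻¹ * x * l) ∈ (MulAut.conj (g⁻¹ * z P) • N).map f := mem_map_of_mem f h4
      rw [hmap, mem_cj, inv_inv] at h5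
      rw [mem_cj]
      have e : (f g * f l * (f g)⁻¹)⁻¹ * y * (f g * f l * (f g)⁻¹) = f g * f (l⁻¹ * x * l) * (f g)⁻¹ := by
        rw [map_mul, map_mul, map_inv, hxy]; group
      rw [e]
      exact ⟨h3, h5⟩
    rw [← hcomap, mem_comap, hmap, mem_cj, inv_inv]
    exact h1.2

theorem exists_ti [Finite X] (S : Sylow 2 X) (N : Subgroup X) (hS : (S : Subgroup X) ≤ N) (hN : N ≠ ⊤)
    (uniq : ∀ K : Subgroup X, (S : Subgroup X) ≤ K → K ≠ ⊤ → K ≤ N) {A : Subgroup X} (hA : IsPGroup 2 A)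
    (hQ : ¬ A ≤ Cfsg.pCore 2 X) : ∃ x y : X, MinFF.TI (A.subgroupOf (A ⊔ MulAut.conj x • A))
      ((MulAut.conj y • N).subgroupOf (A ⊔ MulAut.conj x • A)) := by
  obtain ⟨y, L, hAL, hAN, hLN, hti⟩ := exists_pre S N hS hN uniq hA hQ
  set N₁ := MulAut.conj y • N with hN₁
  let T : Set X := {x | x ∈ L ∧ x ∉ N₁}
  have hT : T.Nonempty := by
    obtain ⟨x, h1, h2⟩ := SetLike.not_le_iff_exists.1 hLN
    exact ⟨x, h1, h2⟩
  obtain ⟨x, ⟨hxL, hxN⟩, hmin⟩ := Set.exists_min_image T (fun x => Nat.card (A ⊔ MulAut.conj x • A : Subgroup X))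
    (Set.toFinite T) hT
  refine ⟨x, y, ?_⟩
  set X₁ := A ⊔ MulAut.conj x • A with hX₁
  have hX₁L : X₁ ≤ L := by
    refine sup_le hAL ?_
    rw [← cj_of_mem hxL]
    exact cj_mono hAL
  refine ⟨?_, ?_, ?_, ?_⟩
  · intro a ha
    exact hAN ha
  · intro h
    rw [subgroupOf_eq_top] at h
    apply hxN
    apply inv_mem_iff.1
    apply hti _ (inv_mem hxL)
    rw [← cj_le_iff]
    exact le_inf (le_sup_right.trans hX₁L) (le_sup_right.trans h)
  · intro K hAK hne k hk
    rw [mem_subgroupOf]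
    by_contra hkN
    have hkL : (k : X) ∈ L := hX₁L k.2
    have h1 := hmin (k : X) ⟨hkL, hkN⟩
    have h2 : A ⊔ MulAut.conj (k : X) • A ≤ K.map X₁.subtype := by
      have h3 : A ≤ K.map X₁.subtype := by
        intro a ha
        exact ⟨⟨a, (le_sup_left : A ≤ X₁) ha⟩, hAK ha, rfl⟩
      refine sup_le h3 ?_
      have h4 : (k : X) ∈ K.map X₁.subtype := ⟨k, hk, rfl⟩
      rw [← cj_of_mem h4]
      exact cj_mono h3
    have h3 : Nat.card (A ⊔ MulAut.conj (k : X) • A : Subgroup X) ≤ Nat.card (K.map X₁.subtype) :=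
      Subgroup.card_le_of_le h2
    have h4 : Nat.card (K.map X₁.subtype) = Nat.card K :=
      Nat.card_congr (K.equivMapOfInjective _ X₁.subtype_injective).symm.toEquiv
    have h5 : Nat.card K < Nat.card X₁ := by
      refine lt_of_le_of_ne (Subgroup.card_le_card_group K) fun h6 => hne ?_
      exact Subgroup.eq_top_of_card_eq K h6
    omega
  · intro g hg
    rw [mem_subgroupOf]
    apply hti _ (hX₁L g.2)
    intro a ha
    have h1 : (⟨a, (le_sup_left : A ≤ X₁) ha⟩ : X₁) ∈ MulAut.conj g • N₁.subgroupOf X₁ := hg ha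
    rw [mem_cj, mem_subgroupOf] at h1
    rw [mem_cj]
    refine ⟨?_, h1⟩
    exact L.mul_mem (L.mul_mem (L.inv_mem (hX₁L g.2)) (hAL ha)) (hX₁L g.2)

end Cfsg.Agent.Omega.NO3b.TheoremL.Lift

end
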